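import Groth.Agent.FinEtTrace5.Count
import Groth.Agent.Shriek.Trace
import Groth.Agent.EtFound.FieldExt

/-! the trace of a finite etale morphism -/

set_option autoImplicit false
universe u

open CategoryTheory CategoryTheory.Limits AlgebraicGeometry Opposite

noncomputable section

set_option backward.isDefEq.respectTransparency false
set_option backward.isDefEq.respectTransparency.types false

namespace Groth.Agent.FinEtTrace5

open Groth.Agent.Shriek Groth.Agent.EtFound LocCohLib.ExciseSect

variable {X' X : Scheme.{u}} (π : X' ⟶ X) [IsFinite π] [AlgebraicGeometry.Etale π] [EtShriek.JCont π]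

/-- restriction is left adjoint to direct image -/
def restrAdj : EtShriek.restrAlong π ⊣ EtCoh.push π :=
  let a : EtShriek.compEtale π ⊣ EtCoh.bc π :=
    MorphismProperty.Over.mapPullbackAdj EtCoh.etaleMP ⊤ π
      (inferInstanceAs (AlgebraicGeometry.Etale π)) trivial
  a.sheafPushforwardContinuous (E := AddCommGrpCat.{u + 1}) X'.smallEtaleTopology X.smallEtaleTopology

/-- `π^{-1}` is restriction -/
def pullIso : EtShriek.restrAlong π ≅ EtCoh.pull π :=
  (restrAdj π).leftAdjointUniq (EtCoh.pullPushAdj π)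

/-- `π_! = π_*` -/
def shriekPushIso : EtShriek.extZero π ≅ EtCoh.push π :=
  haveI := isIso_tau π
  haveI := isIso_shriekToPush π
  asIso (tau π) ≪≫ asIso (shriekToPush π)

/-- the trace -/
def trAdj : EtCoh.push π ⊣ EtCoh.pull π :=
  ((EtShriek.extZeroAdj π).ofNatIsoLeft (shriekPushIso π)).ofNatIsoRight (pullIso π)

theorem unit_trAdj (F : EtCoh.Ab X) :
    (EtCoh.pullPushAdj π).unit.app F ≫ (trAdj π).counit.app F =
      (restrAdj π).unit.app F ≫ (shriekPushIso π).inv.app ((EtShriek.restrAlong π).obj F) ≫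
        (EtShriek.extZeroAdj π).counit.app F := by
  have h : (restrAdj π).unit.app F ≫ (EtCoh.push π).map ((pullIso π).hom.app F) =
      (EtCoh.pullPushAdj π).unit.app F :=
    Adjunction.unit_leftAdjointUniq_hom_app _ _ _
  rw [← h, trAdj, Adjunction.ofNatIsoRight_counit, Adjunction.ofNatIsoLeft_counit]
  simp only [NatTrans.comp_app, Functor.whiskerRight_app, Functor.whiskerLeft_app, Category.assoc]
  rw [← Functor.map_comp_assoc, Iso.hom_inv_id_app, CategoryTheory.Functor.map_id, Category.id_comp]

theorem stalk_trace (F : EtCoh.Ab X) (d : ℕ) {Ω : Type u} [Field Ω] [IsAlgClosed Ω]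
    (ξ : Spec (CommRingCat.of Ω) ⟶ X)
    (hcard : Finite (PtsOver π ξ) ∧ Nat.card (PtsOver π ξ) = d) (x : (EtCoh.stalk ξ).obj F) :
    (EtCoh.stalk ξ).map ((restrAdj π).unit.app F ≫
      (shriekPushIso π).inv.app ((EtShriek.restrAlong π).obj F) ≫
        (EtShriek.extZeroAdj π).counit.app F) x = d • x := by
  classical
  haveI := isIso_tau π
  haveI := isIso_shriekToPush π
  obtain ⟨V, v, t, rfl⟩ := (Scheme.pointSmallEtale ξ).toPresheafFiber_jointly_surjective x
  haveI := hcard.1
  let := Fintype.ofFinite (PtsOver π ξ)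
  let G := (EtShriek.restrAlong π).obj F
  -- the image of the section under the unit, as a section with proper support
  let s : EtCoh.sect ((EtCoh.push π).obj G) V := ((restrAdj π).unit.app F).hom.app (op V) t
  let t₁ : EtCoh.sect ((shriek π).obj G) V := (inv ((shriekToPush π).app G)).hom.app (op V) s
  have ht₁ : ((shriekToPush π).app G).hom.app (op V) t₁ = s := by
    show ((inv ((shriekToPush π).app G)).hom.app (op V) ≫ ((shriekToPush π).app G).hom.app (op V)) s = s
    rw [← NatTrans.comp_app]
    rw [show (inv ((shriekToPush π).app G)).hom ≫ ((shriekToPush π).app G).hom =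
      (inv ((shriekToPush π).app G) ≫ (shriekToPush π).app G).hom from rfl, IsIso.inv_hom_id]
    rfl
  let d₀ := (Scheme.pointSmallEtale ξ).toPresheafFiber V v ((shriek π).obj G).obj t₁
  let y : ∀ z : PtsOver π ξ, (EtCoh.stalk z.1).obj G := fun z => evalAt π ξ G z d₀
  let E : (EtCoh.stalk ξ).obj ((EtShriek.extZero π).obj G) :=
    ∑ z : PtsOver π ξ, extZeroι π ξ G z (y z)
  have hE : (EtCoh.stalk ξ).map ((tau π).app G) E = d₀ := by
    refine sub_eq_zero.1 (eq_zero_of_evalAt π ξ _ (pointsReach_of_etale π ξ) _ fun z => ?_)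
    rw [map_sub, sub_eq_zero]
    simp only [E, map_sum]
    rw [Finset.sum_eq_single z]
    · exact evalAt_tau_self π G ξ z (y z)
    · exact fun z' _ hz => evalAt_tau_ne π G ξ z' z hz (y z')
    · exact fun h => absurd (Finset.mem_univ z) h
  have hc : ∀ (z : PtsOver π ξ),
      (EtCoh.stalk ξ).map ((EtShriek.extZeroAdj π).counit.app F) (extZeroι π ξ G z (y z)) =
        (Scheme.pointSmallEtale ξ).toPresheafFiber V v F.obj t := by
    intro z
    simp only [y, d₀]
    rw [evalAt_germ]
    obtain ⟨z, rfl⟩ := z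
    refine ((ConcreteCategory.comp_apply _ _ _).symm.trans
      (ConcreteCategory.congr_hom (extZeroι_counit π z F) _)).trans ?_
    refine (restrStalkMap_germ_apply π z F _ _ _).trans ?_
    have : (t₁.1 : EtCoh.sect G ((EtCoh.bc π).obj V)) = s := ht₁
    rw [this]
    refine ((Scheme.pointSmallEtale (z ≫ π)).toPresheafFiber_w_apply
      ((MorphismProperty.Over.mapPullbackAdj EtCoh.etaleMP ⊤ π
        (inferInstanceAs (AlgebraicGeometry.Etale π)) trivial).counit.app V) _ F.obj t).trans ?_
    refine congrArg (fun w => (Scheme.pointSmallEtale (z ≫ π)).toPresheafFiber V w F.obj t)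
      (CategoryTheory.Over.OverMorphism.ext ?_)
    exact pullback.lift_fst _ _ _
  have key : (EtCoh.stalk ξ).map ((restrAdj π).unit.app F ≫ (shriekPushIso π).inv.app G)
      ((Scheme.pointSmallEtale ξ).toPresheafFiber V v F.obj t) = E := by
    have hinj : Function.Injective ((EtCoh.stalk ξ).map ((tau π).app G) ≫
        (EtCoh.stalk ξ).map ((shriekToPush π).app G)) := by
      rw [← Functor.map_comp]
      exact ((ConcreteCategory.isIso_iff_bijective _).1 inferInstance).1
    apply hinj
    rw [ConcreteCategory.comp_apply _ _ E, hE, ← Functor.map_comp,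
      ← ConcreteCategory.comp_apply, ← Functor.map_comp]
    have e : ((restrAdj π).unit.app F ≫ (shriekPushIso π).inv.app G) ≫
        ((tau π).app G ≫ (shriekToPush π).app G) = (restrAdj π).unit.app F := by
      rw [Category.assoc, show (tau π).app G ≫ (shriekToPush π).app G = (shriekPushIso π).hom.app G from rfl,
        Iso.inv_hom_id_app]
      exact Category.comp_id _
    rw [e]
    refine ((Scheme.pointSmallEtale ξ).toPresheafFiber_naturality_apply
      ((restrAdj π).unit.app F).hom V v t).trans ?_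
    refine Eq.trans ?_ ((Scheme.pointSmallEtale ξ).toPresheafFiber_naturality_apply
      ((shriekToPush π).app G).hom V v t₁).symm
    rw [ht₁]
    rfl
  rw [← Category.assoc, Functor.map_comp]
  rw [ConcreteCategory.comp_apply]
  refine (congrArg _ key).trans ?_
  simp only [E, map_sum]
  refine (Finset.sum_congr rfl fun z _ => hc z).trans ?_
  refine (Finset.sum_const _).trans ?_
  rw [Finset.card_univ, ← Nat.card_eq_fintype_card, hcard.2]
  rfl

theorem trace_comp (F : EtCoh.Ab X) (d : ℕ) (hd : ∀ x : X, π.finrank x = d) :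
    (EtCoh.pullPushAdj π).unit.app F ≫ (trAdj π).counit.app F = d • 𝟙 F := by
  rw [unit_trAdj]
  refine eq_of_stalks _ _ fun Ω _ _ ξ => ?_
  let e : Spec (CommRingCat.of (AlgebraicClosure Ω)) ⟶ Spec (CommRingCat.of Ω) :=
    Spec.map (CommRingCat.ofHom (algebraMap Ω (AlgebraicClosure Ω)))
  let α : EtCoh.stalk ξ ≅ EtCoh.stalk (e ≫ ξ) := stalkExtIso AddCommGrpCat.{u + 1} ξ e
  rw [← cancel_mono (α.hom.app F)]
  refine (α.hom.naturality _).trans (Eq.trans ?_ (α.hom.naturality _).symm)
  refine congrArg (α.hom.app F ≫ ·) (ConcreteCategory.hom_ext _ _ fun x => ?_)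
  haveI : (EtCoh.stalk (e ≫ ξ)).Additive := Functor.additive_of_preserves_binary_products _
  rw [stalk_trace π F d (e ≫ ξ)
    ⟨(natCard_lifts π (e ≫ ξ)).1, (natCard_lifts π (e ≫ ξ)).2.trans (hd _)⟩ x,
    Functor.map_nsmul]
  rw [show (EtCoh.stalk (e ≫ ξ)).map (𝟙 F) = 𝟙 _ from CategoryTheory.Functor.map_id _ _]
  rfl

end Groth.Agent.FinEtTrace5
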