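import Groth.Agent.MorLib.WeightDeg

/-! the number of geometric points in the fibres of a finite etale morphism -/

set_option autoImplicit false
universe u

open CategoryTheory CategoryTheory.Limits AlgebraicGeometry

namespace Groth.Agent.FinEtTrace5

open Groth.Agent.MorLib Groth.Agent.MorLib.WT

theorem wt_eq_one {X S : Scheme.{u}} (f : X ⟶ S) [Etale f] (t : X) : wt f t = 1 := by
  simp only [wt]
  rw [map_maximalIdeal_stalkMap, insep_eq_one]
  have h1 : Module.length (X.presheaf.stalk t)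
      (X.presheaf.stalk t ⧸ IsLocalRing.maximalIdeal (X.presheaf.stalk t)) = 1 := by
    rw [Module.length_eq_one_iff, isSimpleModule_iff_isCoatom, ← Ideal.isMaximal_def]
    exact IsLocalRing.maximalIdeal.isMaximal _
  rw [h1]
  rfl

theorem natCard_lifts {X S : Scheme.{u}} (f : X ⟶ S) [IsFinite f] [Etale f]
    {Ω : Type u} [Field Ω] [IsAlgClosed Ω] (yb : Spec (CommRingCat.of Ω) ⟶ S) :
    Finite {δ : Spec (CommRingCat.of Ω) ⟶ X // δ ≫ f = yb} ∧
    Nat.card {δ : Spec (CommRingCat.of Ω) ⟶ X // δ ≫ f = yb} = f.finrank (GF.pt yb) := by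
  classical
  have hfin : ∀ s : S, (f ⁻¹' {s}).Finite := f.finite_preimage_singleton
  haveI := GF.finite_lifts f yb (hfin _)
  refine ⟨inferInstance, Nat.cast_injective (R := ℤ) ?_⟩
  rw [← show (pullback.snd f yb).finrank (IsLocalRing.closedPoint Ω) = f.finrank (GF.pt yb) from
    Scheme.Hom.finrank_pullback_snd f yb (IsLocalRing.closedPoint Ω),
    finrank_geomFibre hfin yb _, GF.fibreIntegral_eq f _ yb (hfin _)]
  let := Fintype.ofFinite {δ : Spec (CommRingCat.of Ω) ⟶ X // δ ≫ f = yb}
  rw [GF.geomSum, finsum_eq_sum_of_fintype]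
  simp [wt_eq_one, Nat.card_eq_fintype_card]

end Groth.Agent.FinEtTrace5
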